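import Cfsg.Agent.Lib.Comp.Fast

set_option maxRecDepth 100000
set_option Elab.async false

namespace Cfsg.Lib.Comp.L34x

universe u

def iv : ℕ → ℕ := (fun x => look (nat_lit 0xffef7cefae78df6d74cf2c70beeb6caeaa689e69648e28607de75c6da6585d65544d24503ce34c2ca2481c51840c2040) 6 x)

noncomputable def R : List (List ℕ × ℕ) := [([1],1),
 ([2],1),
 ([3],1),
 ([4],1),
 ([1,2],1),
 ([1,3],1),
 ([2,3],1),
 ([1,4],1),
 ([2,4],1),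
 ([3,4],1),
 ([5],2),
 ([1,6,2,5],0),
 ([1,2,5,2,6],0),
 ([1,3,5,4,6],0),
 ([3,5],2),
 ([7],1),
 ([1,7],2),
 ([4,7],2),
 ([5,7],2),
 ([2,4,5,7],1),
 ([8],1),
 ([1,8],1),
 ([2,8],1),
 ([5,8],2),
 ([7,8],2),
 ([3,8],3),
 ([4,8],3),
 ([5,7,5,8,5,7,8,6,7,8],0),
 ([5,6],0)]

def L : List ℕ := [1,2,3,4,5,6,7,8]

end Cfsg.Lib.Comp.L34x
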