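import Cfsg.Agent.Lib.Comp.L34x.Main
import Cfsg.Agent.Lib.MatB.Fam
import Cfsg.Agent.S0243

set_option maxRecDepth 100000
set_option Elab.async false

namespace Cfsg.Lib.Comp.L34x

open Cfsg.Lib.MatB Matrix

universe u

def mT0 : List ℕ := [nat_lit 0x1, nat_lit 0x20, nat_lit 0x400, nat_lit 0x8000, nat_lit 0x100000, nat_lit 0x2000000]
def mT1 : List ℕ := [nat_lit 0x1, nat_lit 0x2000001, nat_lit 0x108021, nat_lit 0x8000, nat_lit 0x2008400, nat_lit 0x21]
def mT2 : List ℕ := [nat_lit 0x1, nat_lit 0x108401, nat_lit 0x2108000, nat_lit 0x8000, nat_lit 0x2100021, nat_lit 0x2108421]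
def mT3 : List ℕ := [nat_lit 0x1, nat_lit 0x2108421, nat_lit 0x2008420, nat_lit 0x8000, nat_lit 0x421, nat_lit 0x108401]
def mT4 : List ℕ := [nat_lit 0x1, nat_lit 0x2008000, nat_lit 0x100021, nat_lit 0x8000, nat_lit 0x2008401, nat_lit 0x8020]
def mT5 : List ℕ := [nat_lit 0x8001, nat_lit 0x100400, nat_lit 0x8401, nat_lit 0x1, nat_lit 0x2100020, nat_lit 0x2000001]
def mT6 : List ℕ := [nat_lit 0x8000, nat_lit 0x2108421, nat_lit 0x401, nat_lit 0x8001, nat_lit 0x421, nat_lit 0x2008000]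
def mT7 : List ℕ := [nat_lit 0x8001, nat_lit 0x100421, nat_lit 0x2000400, nat_lit 0x1, nat_lit 0x2008020, nat_lit 0x400]
def mT8 : List ℕ := [nat_lit 0x108420, nat_lit 0x108401, nat_lit 0x400, nat_lit 0x2008021, nat_lit 0x2100021, nat_lit 0x2000000]
def mT9 : List ℕ := [nat_lit 0x2008021, nat_lit 0x2100001, nat_lit 0x420, nat_lit 0x2100401, nat_lit 0x2108420, nat_lit 0x2100000]
def mT10 : List ℕ := [nat_lit 0x108420, nat_lit 0x8021, nat_lit 0x100020, nat_lit 0x2008021, nat_lit 0x100001, nat_lit 0x20]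
def mT11 : List ℕ := [nat_lit 0x2000020, nat_lit 0x8420, nat_lit 0x8020, nat_lit 0x2100400, nat_lit 0x2108001, nat_lit 0x108001]
def mT12 : List ℕ := [nat_lit 0x2100400, nat_lit 0x2000000, nat_lit 0x100021, nat_lit 0x100420, nat_lit 0x2000400, nat_lit 0x8020]
def mT13 : List ℕ := [nat_lit 0x2000020, nat_lit 0x108001, nat_lit 0x2000001, nat_lit 0x2100400, nat_lit 0x100021, nat_lit 0x2008400]
def mT14 : List ℕ := [nat_lit 0x2008021, nat_lit 0x108000, nat_lit 0x108400, nat_lit 0x2100401, nat_lit 0x108021, nat_lit 0x2108021]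
def mT15 : List ℕ := [nat_lit 0x2008020, nat_lit 0x2008421, nat_lit 0x2100021, nat_lit 0x2108401, nat_lit 0x100401, nat_lit 0x2008420]
def mT16 : List ℕ := [nat_lit 0x108421, nat_lit 0x8401, nat_lit 0x420, nat_lit 0x2000021, nat_lit 0x2000001, nat_lit 0x2100000]
def mT17 : List ℕ := [nat_lit 0x2008020, nat_lit 0x8400, nat_lit 0x2100021, nat_lit 0x2108401, nat_lit 0x2008001, nat_lit 0x2008420]
def mT18 : List ℕ := [nat_lit 0x2108400, nat_lit 0x2008400, nat_lit 0x100401, nat_lit 0x108421, nat_lit 0x8401, nat_lit 0x2108020]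
def mT19 : List ℕ := [nat_lit 0x108421, nat_lit 0x8420, nat_lit 0x2000001, nat_lit 0x2000021, nat_lit 0x2108001, nat_lit 0x2008400]
def mT20 : List ℕ := [nat_lit 0x2108401, nat_lit 0x108021, nat_lit 0x2108020, nat_lit 0x100421, nat_lit 0x21, nat_lit 0x2008421]
def mT21 : List ℕ := [nat_lit 0x2108000, nat_lit 0x400, nat_lit 0x2000001, nat_lit 0x2108421, nat_lit 0x2000000, nat_lit 0x2008400]
def mT22 : List ℕ := [nat_lit 0x401, nat_lit 0x400, nat_lit 0x8021, nat_lit 0x2008000, nat_lit 0x2000000, nat_lit 0x100001]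
def mT23 : List ℕ := [nat_lit 0x100400, nat_lit 0x108421, nat_lit 0x20, nat_lit 0x2100020, nat_lit 0x2000021, nat_lit 0x100000]
def mT24 : List ℕ := [nat_lit 0x21, nat_lit 0x108421, nat_lit 0x20, nat_lit 0x108000, nat_lit 0x2000021, nat_lit 0x100000]
def mT25 : List ℕ := [nat_lit 0x8421, nat_lit 0x2000000, nat_lit 0x2000001, nat_lit 0x2100001, nat_lit 0x2000400, nat_lit 0x2008400]
def mT26 : List ℕ := [nat_lit 0x2100020, nat_lit 0x2108000, nat_lit 0x2008001, nat_lit 0x2000420, nat_lit 0x2108421, nat_lit 0x2000401]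
def mT27 : List ℕ := [nat_lit 0x420, nat_lit 0x2000401, nat_lit 0x100020, nat_lit 0x2100000, nat_lit 0x8400, nat_lit 0x20]
def mT28 : List ℕ := [nat_lit 0x2100401, nat_lit 0x108401, nat_lit 0x2108020, nat_lit 0x108420, nat_lit 0x2100021, nat_lit 0x2008421]
def mT29 : List ℕ := [nat_lit 0x2108001, nat_lit 0x100000, nat_lit 0x2008400, nat_lit 0x2100421, nat_lit 0x100020, nat_lit 0x8401]
def mT30 : List ℕ := [nat_lit 0x2008421, nat_lit 0x2108420, nat_lit 0x2008400, nat_lit 0x100401, nat_lit 0x8421, nat_lit 0x8401]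
def mT31 : List ℕ := [nat_lit 0x2108021, nat_lit 0x100020, nat_lit 0x2108400, nat_lit 0x2000421, nat_lit 0x20, nat_lit 0x108421]
def mT32 : List ℕ := [nat_lit 0x2100401, nat_lit 0x2100000, nat_lit 0x8021, nat_lit 0x108420, nat_lit 0x2100420, nat_lit 0x100001]
def mT33 : List ℕ := [nat_lit 0x100400, nat_lit 0x2100421, nat_lit 0x2108021, nat_lit 0x2100020, nat_lit 0x8420, nat_lit 0x2000421]
def mT34 : List ℕ := [nat_lit 0x20, nat_lit 0x401, nat_lit 0x2108400, nat_lit 0x100000, nat_lit 0x2008000, nat_lit 0x108421]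
def mT35 : List ℕ := [nat_lit 0x2008001, nat_lit 0x100420, nat_lit 0x2000021, nat_lit 0x2000401, nat_lit 0x2000020, nat_lit 0x2108400]
def mT36 : List ℕ := [nat_lit 0x108420, nat_lit 0x1, nat_lit 0x108400, nat_lit 0x2008021, nat_lit 0x8000, nat_lit 0x2108021]
def mT37 : List ℕ := [nat_lit 0x8000, nat_lit 0x100000, nat_lit 0x2000000, nat_lit 0x8001, nat_lit 0x100020, nat_lit 0x2000400]
def mT38 : List ℕ := [nat_lit 0x8001, nat_lit 0x100020, nat_lit 0x2000400, nat_lit 0x1, nat_lit 0x20, nat_lit 0x400]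

def mtabs : List (List ℕ) := [mT0, mT1, mT2, mT3, mT4, mT5, mT6, mT7, mT8, mT9, mT10, mT11, mT12, mT13, mT14, mT15, mT16, mT17, mT18, mT19, mT20, mT21, mT22, mT23, mT24, mT25, mT26, mT27, mT28, mT29, mT30, mT31, mT32, mT33, mT34, mT35, mT36, mT37, mT38]

noncomputable def mtab : ℕ → List ℕ := nth mT0 mtabs

def mrd (v : ℕ) : ℕ := Nat.land v (nat_lit 0x2108421)

theorem mctx : Ctx 5 2 3 6 (QuadraticAlgebra.omega : K4) (@Fin.val 3) mrd :=
  ⟨by decide +kernel, by decide +kernel, by decide +kernel, Or.inl rfl, by decide +kernel, by norm_num, by norm_num,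
    fun v => (congrArg (Nat.land v) (by decide +kernel : nat_lit 0x2108421 = rep 5 6)).trans (land_rep (by norm_num) 6 v)⟩

theorem mok : ∀ x, TabOK 5 3 6 (QuadraticAlgebra.omega : K4) mrd (mtab x) := tabOK_nth (by decide +kernel)

noncomputable abbrev mM (x : ℕ) : Matrix (Fin 3) (Fin 3) K4 := tm 5 3 (QuadraticAlgebra.omega : K4) (@Fin.val 3) (mtab x)

noncomputable def mR : List (List ℕ × ℕ) := apd R (L.map fun x => ([x, iv x], 0))

theorem mside : SideOK iv R mR L := by decide +kernel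

theorem mrel : relB 5 3 mrd mtab [0, 37, 38] mR = true := by decide +kernel

theorem mdet : detB 5 3 mrd mtab [(1, 9, 10, 11, 12), (2, 13, 14, 15, 16), (3, 17, 18, 19, 20), (4, 21, 22, 23, 24), (5, 25, 26, 27, 28), (6, 26, 25, 28, 27), (7, 29, 30, 31, 32), (8, 33, 34, 35, 36)] = true := by decide +kernel

theorem iso {F : Type u} [Field F] [Fintype F] (hF : Fintype.card F = 4) :
    Nonempty (cl (gp nets) L ≃* ProjectiveSpecialLinearGroup (Fin 3) F) := by
  obtain ⟨φ⟩ := hom4 hF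
  have := simple
  have := nets_ok.finite L
  refine bridge_proj nets_iv nets_rel ord card mside φ φ.injective SpecialLinearGroup.coeMonoidHom Subtype.val_injective
    (M := mM) (fun x hx => sl_mem φ (mctx.det mok mdet x hx)) (by decide +kernel) (mctx.rel mok mrel)
    (x := 1) (y := 5) (by decide) (by decide) (i := 1) (j := 0) (by decide +kernel) ?_
  have h := Cfsg.Agent.S0243.result hF 3 (by norm_num)
  change Nat.card (ProjectiveSpecialLinearGroup (Fin 3) F) = _
  norm_num [Finset.prod_range_succ, Fin.prod_univ_succ] at h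
  omega

end Cfsg.Lib.Comp.L34x
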