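import Cfsg.Agent.Lib.Comp.L34x.Base

set_option maxRecDepth 100000
set_option Elab.async false

namespace Cfsg.Lib.Comp.L34x

universe u

noncomputable def nets_1 : Net :=
 (Net.cons 12 (nat_lit 0x8a0)
 (Net.cons 6 (nat_lit 0x32020)
 (Net.cons 3 (nat_lit 0x86000)
 (Net.cons 1 (nat_lit 0x49240)
 (Net.cons 1 (nat_lit 0x402000)
 (Net.cons 1 (nat_lit 0x1000)
 (Net.cons 3 (nat_lit 0x861c0)
 (Net.cons 6 (nat_lit 0x36020)
 (Net.cons 12 (nat_lit 0x8a0)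
 Net.nil)))))))))

noncomputable def nets_2 : Net :=
 (Net.cons 12 (nat_lit 0x400)
 (Net.cons 6 (nat_lit 0x20002)
 (Net.cons 3 (nat_lit 0x84004)
 (Net.cons 1 (nat_lit 0x41240)
 (Net.cons 1 (nat_lit 0x490482)
 (Net.cons 1 (nat_lit 0x8240)
 (Net.cons 3 (nat_lit 0x87144)
 (Net.cons 6 (nat_lit 0x35002)
 (Net.cons 12 (nat_lit 0x400)
 Net.nil)))))))))

noncomputable def nets_3 : Net :=
 (Net.cons 12 (nat_lit 0xd82)
 (Net.cons 6 (nat_lit 0x10020)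
 (Net.cons 3 (nat_lit 0x2000)
 (Net.cons 1 (nat_lit 0x8240)
 (Net.cons 1 (nat_lit 0x492480)
 (Net.cons 1 (nat_lit 0x8240)
 (Net.cons 3 (nat_lit 0x2000)
 (Net.cons 6 (nat_lit 0x11022)
 (Net.cons 12 (nat_lit 0xd82)
 Net.nil)))))))))

noncomputable def nets_4 : Net :=
 (Net.cons 12 (nat_lit 0x122)
 (Net.cons 6 (nat_lit 0x24004)
 (Net.cons 1 (nat_lit 0x49240)
 (Net.cons 1 (nat_lit 0x2002)
 (Net.cons 1 (nat_lit 0x1000)
 (Net.cons 3 (nat_lit 0x100000)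
 (Net.cons 6 (nat_lit 0x24024)
 (Net.cons 12 (nat_lit 0x1e2)
 Net.nil))))))))

noncomputable def nets_5 : Net :=
 (Net.cons 12 (nat_lit 0xe00)
 (Net.cons 6 (nat_lit 0x1c000)
 (Net.cons 3 (nat_lit 0x6004)
 (Net.cons 1 (nat_lit 0x9008)
 (Net.cons 1 (nat_lit 0x482090)
 (Net.cons 1 (nat_lit 0x241040)
 (Net.cons 3 (nat_lit 0x184004)
 (Net.cons 6 (nat_lit 0x1c000)
 (Net.cons 12 (nat_lit 0xe20)
 Net.nil)))))))))

noncomputable def nets_7 : Net :=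
 (Net.cons 12 (nat_lit 0x98)
 (Net.cons 6 (nat_lit 0x28)
 (Net.cons 3 (nat_lit 0x2004)
 (Net.cons 1 (nat_lit 0x48248)
 (Net.cons 1 (nat_lit 0x2002)
 (Net.cons 3 (nat_lit 0x20c4)
 (Net.cons 6 (nat_lit 0x2c)
 (Net.cons 12 (nat_lit 0x98)
 Net.nil))))))))

noncomputable def nets_8 : Net :=
 (Net.cons 12 (nat_lit 0x800)
 (Net.cons 6 (nat_lit 0x20000)
 (Net.cons 3 (nat_lit 0x84184)
 (Net.cons 1 (nat_lit 0x41240)
 (Net.cons 1 (nat_lit 0x492410)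
 (Net.cons 1 (nat_lit 0x41200)
 (Net.cons 3 (nat_lit 0x84185)
 (Net.cons 6 (nat_lit 0x20000)
 (Net.cons 12 (nat_lit 0x800)
 Net.nil)))))))))

noncomputable def nets : List Net := [Net.nil,
 nets_1,
 nets_2,
 nets_3,
 nets_4,
 nets_5,
 Net.rev nets_5,
 nets_7,
 nets_8]

theorem nets_ok : NetsOK 24 nets := netsOK_of (by decide +kernel)

theorem nets_rel : Rels (gp nets) R := rels_of_relsB (k := 5) nets_ok (by norm_num) (by decide +kernel)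

theorem nets_iv : IvOK (gp nets) iv := ivOK_of_ivB (k := 5) nets_ok (by norm_num) (by decide +kernel)

noncomputable def slp : List (ℕ × List ℕ) := []

theorem slp_ok : slpB 24 5 nets slp L = true := by decide +kernel

theorem mem_all {x : ℕ} (h : x ∈ L ++ slp.map (·.1)) : gp nets x ∈ cl (gp nets) L :=
  cl_eq_of_slpB nets_ok (by norm_num) slp_ok ▸ mem_cl h

theorem lb : 20160 ≤ Nat.card (cl (gp nets) L) := by
  rw [← cl_eq_of_slpB nets_ok (by norm_num) slp_ok]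
  exact lb_of_chainB nets_ok (C := [([1,2,3,4,5,6,7],[8,5,7,5,1,2,3,7],0,0,21),
 ([1,2,3,4,5,6],[7,1,2,3,4,7],1,1,20),
 ([1,2,3,4],[5,5],2,2,3),
 ([],[1,2,3,4],5,5,16)]) (by decide +kernel)

end Cfsg.Lib.Comp.L34x
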