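import Cfsg.Agent.Lib.Comp.L34x.Base

set_option maxRecDepth 100000
set_option Elab.async false

namespace Cfsg.Lib.Comp.L34x

universe u

noncomputable def T1_R : List (List ℕ × ℕ) := [([1],1),
 ([2],1),
 ([3],1),
 ([4],1),
 ([1,2],1),
 ([1,3],1),
 ([2,3],1),
 ([1,4],1),
 ([2,4],1),
 ([3,4],1),
 ([5],2),
 ([1,6,2,5],0),
 ([1,2,5,2,6],0),
 ([1,3,5,4,6],0),
 ([3,5],2),
 ([7],1),
 ([1,7],2),
 ([4,7],2),
 ([5,7],2),
 ([2,4,5,7],1),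
 ([5,6],0)]

noncomputable def T1_n_1 : Net :=
 (Net.cons 10 (nat_lit 0x128)
 (Net.cons 5 (nat_lit 0x8)
 (Net.cons 1 (nat_lit 0x1000)
 (Net.cons 1 (nat_lit 0x2042)
 (Net.cons 1 (nat_lit 0x10a0)
 (Net.cons 1 (nat_lit 0x40)
 (Net.cons 5 (nat_lit 0x2c18)
 (Net.cons 10 (nat_lit 0x128)
 Net.nil))))))))

noncomputable def T1_n_2 : Net :=
 (Net.cons 10 (nat_lit 0x10)
 (Net.cons 5 (nat_lit 0xa)
 (Net.cons 1 (nat_lit 0x1004)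
 (Net.cons 1 (nat_lit 0x2840)
 (Net.cons 1 (nat_lit 0x10a0)
 (Net.cons 1 (nat_lit 0x40)
 (Net.cons 5 (nat_lit 0x41a)
 (Net.cons 10 (nat_lit 0x50)
 Net.nil))))))))

noncomputable def T1_n_3 : Net :=
 (Net.cons 10 (nat_lit 0x384)
 (Net.cons 5 (nat_lit 0x7000)
 (Net.cons 1 (nat_lit 0x20424)
 (Net.cons 1 (nat_lit 0x5280a)
 (Net.cons 1 (nat_lit 0x9004)
 (Net.cons 1 (nat_lit 0xa)
 (Net.cons 5 (nat_lit 0xc00)
 (Net.cons 10 (nat_lit 0x384)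
 Net.nil))))))))

noncomputable def T1_n_4 : Net :=
 (Net.cons 10 (nat_lit 0x276)
 (Net.cons 5 (nat_lit 0x2804)
 (Net.cons 1 (nat_lit 0x80a4)
 (Net.cons 1 (nat_lit 0x4284a)
 (Net.cons 1 (nat_lit 0x14a4)
 (Net.cons 1 (nat_lit 0x284a)
 (Net.cons 5 (nat_lit 0x2804)
 (Net.cons 10 (nat_lit 0x276)
 Net.nil))))))))

noncomputable def T1_n_5 : Net :=
 (Net.cons 10 (nat_lit 0x3c0)
 (Net.cons 5 (nat_lit 0x201c)
 (Net.cons 1 (nat_lit 0x29420)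
 (Net.cons 1 (nat_lit 0x10848)
 (Net.cons 1 (nat_lit 0x29004)
 (Net.cons 1 (nat_lit 0x10000)
 (Net.cons 5 (nat_lit 0x4c1e)
 (Net.cons 10 (nat_lit 0x3ba)
 Net.nil))))))))

noncomputable def T1_n_7 : Net :=
 (Net.cons 10 (nat_lit 0x118)
 (Net.cons 5 (nat_lit 0x5800)
 (Net.cons 1 (nat_lit 0x8001)
 (Net.cons 1 (nat_lit 0x52948)
 (Net.cons 1 (nat_lit 0x21400)
 (Net.cons 1 (nat_lit 0x52800)
 (Net.cons 1 (nat_lit 0x8000)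
 (Net.cons 5 (nat_lit 0x7818)
 (Net.cons 10 (nat_lit 0x118)
 Net.nil)))))))))

noncomputable def T1_n : List Net := [Net.nil,
 T1_n_1,
 T1_n_2,
 T1_n_3,
 T1_n_4,
 T1_n_5,
 Net.rev T1_n_5,
 T1_n_7]

theorem T1_n_ok : NetsOK 20 T1_n := netsOK_of (by decide +kernel)

theorem T1_n_rel : Rels (gp T1_n) T1_R := rels_of_relsB (k := 5) T1_n_ok (by norm_num) (by decide +kernel)

theorem T1_fin : finB 20 T1_n [1,2,3,4,5,6,7] 20 (runH 20 T1_n (fun x p => ptInv (nth Net.nil T1_n x) p) iv T1_R [] ([1,2,3,4,5,6].map fun x => [x]) 0 []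
  [1,5,9,13,17,21,0,4,8,12,16,20,24,28,32,36,60,64,68,76,80,44,48,52,64,76,40,44,52,60,72,76,80,44,60,64,68,72,76,80,44,52]
  (defsH 20 T1_n (ones 180) [7,1,2,3,4,7] (Nat.shiftLeft 1 0) 0)) = true := by decide +kernel

theorem T1_idx : Idx.{u} iv (T1_R ++ []) ([1,2,3,4,5,6].map fun x => [x]) [1,2,3,4,5,6,7] 20 :=
  Reach.idx T1_n_ok (reach_runH T1_n_ok (fun x p _ => ptInv_gp T1_n_ok x p) T1_n_rel (reach_defsH T1_n_ok _ _ _ _ _ _) _ _) T1_fin (by norm_num)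

end Cfsg.Lib.Comp.L34x
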